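import Groth.Agent.Etcore.RpushLoc
import Groth.Agent.Etcore.HC
import Groth.Agent.EtpbcB.EdgeLemma
import Groth.Agent.Etrest.Site0

/-!
# The edge maps `H^n(Y, f_* N) → H^n(X, N)` in terms of classes

* `edg f N n`, `edg_map` (naturality), `edg_zero_bijective`, `edg_delta` (connecting maps),
  `edg_unit` (`edg` of the unit is `hp`);
* `edg_low`: if `R^q f_* N = 0` (`LocZero`) for `1 ≤ q ≤ m`, then `edg` is bijective in degrees `≤ m` and
  injective in degree `m + 1`;
* `locRange`: if `R^q f_* N = 0` for `1 ≤ q ≤ m` and `ξ ∈ H^{m+1}(X, N)` dies étale locally on `Y` then `ξ` is in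
  the range of `edg`;
* `eq_zero_of_dies`: if `H^1(Y, G) = 0` for all `G` and `ξ ∈ H^{m+1}(X, N)` dies étale locally on `Y` then `ξ = 0`.
-/

set_option autoImplicit false
universe u
open CategoryTheory CategoryTheory.Limits AlgebraicGeometry Opposite Abelian
open scoped Groth.Agent.Etcore.EtInst
open Groth.Agent.Etcore Groth.Agent.Etcore.EtInst Groth.Agent.Etcore.HpullCalc

namespace Groth.Agent.Etbc.H194.Edge

open Groth.Agent.Etcore.HQ Groth.Agent.Etcore.RpushLoc Groth.Agent.Etcore.HC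
open Groth.Agent.EtpbcB.EdgeLemma (Bc T kap shortExact_T π_kap mono_kap shortExact_K K)

attribute [local instance] pfl

variable {X Y : Scheme.{u}} (f : X ⟶ Y)

instance push_additive : (EtCoh.push f).Additive := inferInstance

theorem push_pfl : PreservesFiniteLimits (EtCoh.push f) :=
  have : PreservesLimitsOfSize.{0, 0} (EtCoh.push f) :=
    (EtCoh.pullPushAdj f).rightAdjoint_preservesLimits
  PreservesLimitsOfSize.preservesFiniteLimits _

attribute [local instance] push_pfl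

/-- The edge map `H^n(Y, f_* N) → H^n(X, N)`. -/
noncomputable def edg (N : EtCoh.Ab X) (n : ℕ) : HH Y ((EtCoh.push f).obj N) n →+ HH X N n :=
  hpl f ((EtCoh.pullPushAdj f).counit.app N) n

theorem edg_apply (N : EtCoh.Ab X) (n : ℕ) (x : HH Y ((EtCoh.push f).obj N) n) :
    edg f N n x = HHmap ((EtCoh.pullPushAdj f).counit.app N) n (hp f _ n x) := rfl

/-- `edg` is natural in the sheaf. -/
theorem edg_map {N N' : EtCoh.Ab X} (φ : N ⟶ N') (n : ℕ) (x : HH Y ((EtCoh.push f).obj N) n) :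
    edg f N' n (HHmap ((EtCoh.push f).map φ) n x) = HHmap φ n (edg f N n x) := by
  have h : (EtCoh.pull f).map ((EtCoh.push f).map φ) ≫ (EtCoh.pullPushAdj f).counit.app N' =
    (EtCoh.pullPushAdj f).counit.app N ≫ φ := (EtCoh.pullPushAdj f).counit.naturality φ
  rw [edg, edg, hpl_map, map_hpl, h]

/-- Transposition: the edge map of a class pushed into `f_* N` along the transpose of `l : f⁻¹ G ⟶ N`. -/
theorem edg_homEquiv {G : EtCoh.Ab Y} {N : EtCoh.Ab X} (φ : G ⟶ (EtCoh.push f).obj N) (n : ℕ)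
    (x : HH Y G n) :
    edg f N n (HHmap φ n x) =
      HHmap ((EtCoh.pull f).map φ ≫ (EtCoh.pullPushAdj f).counit.app N) n (hp f G n x) := by
  rw [edg, hpl_map, hpl_apply]

/-- `edg` of the unit is `hp`. -/
theorem edg_unit (G : EtCoh.Ab Y) (n : ℕ) (x : HH Y G n) :
    edg f ((EtCoh.pull f).obj G) n (HHmap ((EtCoh.pullPushAdj f).unit.app G) n x) = hp f G n x := by
  have h : (EtCoh.pull f).map ((EtCoh.pullPushAdj f).unit.app G) ≫
    (EtCoh.pullPushAdj f).counit.app ((EtCoh.pull f).obj G) = 𝟙 _ :=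
    (EtCoh.pullPushAdj f).left_triangle_components G
  rw [edg_homEquiv, h, HHmap_id]
  rfl

/-- In degree zero the edge map is bijective. -/
theorem edg_zero_bijective (N : EtCoh.Ab X) : Function.Bijective (edg f N 0) := by
  have key : ∀ g : EtCoh.const Y ℤ ⟶ (EtCoh.push f).obj N,
      edg f N 0 (Ext.mk₀ g) = Ext.mk₀ ((EtCore.pullConst f ℤ).inv ≫
        ((EtCoh.pullPushAdj f).homEquiv _ _).symm g) := by
    intro g
    rw [edg_apply, hp_apply, Ext.mapExactFunctor_mk₀, Ext.mk₀_comp_mk₀, HHmap_apply,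
      Ext.mk₀_comp_mk₀, Category.assoc, Adjunction.homEquiv_counit]
  constructor
  · intro a b h
    obtain ⟨a, rfl⟩ := (Ext.mk₀_bijective _ _).2 a
    obtain ⟨b, rfl⟩ := (Ext.mk₀_bijective _ _).2 b
    rw [key, key] at h
    have h1 := (Ext.mk₀_bijective _ _).1 h
    rw [cancel_epi] at h1
    rw [((EtCoh.pullPushAdj f).homEquiv _ _).symm.injective h1]
  · intro a
    obtain ⟨a, rfl⟩ := (Ext.mk₀_bijective _ _).2 a
    refine ⟨Ext.mk₀ ((EtCoh.pullPushAdj f).homEquiv _ _ ((EtCore.pullConst f ℤ).hom ≫ a)), ?_⟩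
    rw [key, Equiv.symm_apply_apply, Iso.inv_hom_id_assoc]

section Delta

variable {S : ShortComplex (EtCoh.Ab X)} (hS : S.ShortExact)

/-- `edg` and connecting maps. -/
theorem edg_delta (n : ℕ) (x : HH Y (Bc (EtCoh.push f) S) n) :
    edg f S.X₁ (n + 1) (Ext.comp x (shortExact_T (R := EtCoh.push f) hS).extClass rfl) =
      Ext.comp (edg f S.X₃ n (HHmap (kap (EtCoh.push f) S) n x)) hS.extClass rfl := by
  have h := hpl_extClass f (shortExact_T (R := EtCoh.push f) hS) hS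
    (EtpbcB.EdgeLemma.cmp (EtCoh.pullPushAdj f) S) rfl x
  refine Eq.trans h ?_
  congr 1
  rw [edg, hpl_map]
  rfl

/-- The connecting map for `0 → f_* X₁ → f_* X₂ → Bc → 0`. -/
noncomputable def δT (n : ℕ) : HH Y (Bc (EtCoh.push f) S) n →+ HH Y ((EtCoh.push f).obj S.X₁) (n + 1) :=
  ExtMap.lδ (shortExact_T (R := EtCoh.push f) hS) (EtCoh.const Y ℤ) rfl

/-- The connecting map of a short exact sequence. -/
noncomputable def dl (n : ℕ) : HH X S.X₃ n →+ HH X S.X₁ (n + 1) :=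
  ExtMap.lδ hS (EtCoh.const X ℤ) rfl

theorem dl_apply (n : ℕ) (x : HH X S.X₃ n) : dl hS n x = Ext.comp x hS.extClass rfl := rfl

theorem edg_δT (n : ℕ) (x : HH Y (Bc (EtCoh.push f) S) n) :
    edg f S.X₁ (n + 1) (δT f hS n x) = dl hS n (edg f S.X₃ n (HHmap (kap (EtCoh.push f) S) n x)) :=
  edg_delta f hS n x

theorem exists_dl_eq (n : ℕ) (x : HH X S.X₁ (n + 1)) (h : HHmap S.f (n + 1) x = 0) :
    ∃ y : HH X S.X₃ n, dl hS n y = x := (ExtMap.exact_δf hS (EtCoh.const X ℤ) rfl x).1 h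

theorem exists_map_eq (n : ℕ) (x : HH X S.X₃ n) (h : dl hS n x = 0) :
    ∃ y : HH X S.X₂ n, HHmap S.g n y = x := (ExtMap.exact_gδ hS (EtCoh.const X ℤ) rfl x).1 h

theorem dl_map (n : ℕ) (y : HH X S.X₂ n) : dl hS n (HHmap S.g n y) = 0 :=
  (ExtMap.exact_gδ hS (EtCoh.const X ℤ) rfl _).2 ⟨y, rfl⟩

/-- `hp` and connecting maps, along an étale `q`. -/
theorem hp_dl {Z : Scheme.{u}} (q : Z ⟶ X) (n : ℕ) (x : HH X S.X₃ n) :
    hp q S.X₁ (n + 1) (dl hS n x) = δ hS q n (hp q S.X₃ n x) :=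
  hp_extClass q hS rfl x

theorem hp_map_hq {F G : EtCoh.Ab X} (φ : F ⟶ G) {Z : Scheme.{u}} (q : Z ⟶ X) (n : ℕ) (x : HH X F n) :
    hp q G n (HHmap φ n x) = map φ q n (hp q F n x) := hp_map q φ n x

end Delta

section Low

variable {S : ShortComplex (EtCoh.Ab X)} (hS : S.ShortExact)

theorem HHmap_injective_of_mono {F G : EtCoh.Ab X} (φ : F ⟶ G) [Mono φ] :
    Function.Injective (HHmap φ 0) :=
  Ext.postcomp_mk₀_injective_of_mono (EtCoh.const X ℤ) φ

theorem eq_zero_of_inj (I : EtCoh.Ab X) [Injective I] (n : ℕ) (x : HH X I (n + 1)) : x = 0 :=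
  Ext.eq_zero_of_injective x

theorem push_injective (I : EtCoh.Ab X) [Injective I] : Injective ((EtCoh.push f).obj I) :=
  (EtCoh.pullPushAdj f).map_injective I inferInstance

theorem edg_inj_surj (I : EtCoh.Ab X) [Injective I] (q : ℕ) : Function.Bijective (edg f I q) := by
  obtain _ | q := q
  · exact edg_zero_bijective f I
  · have := push_injective f I
    refine ⟨fun a b _ => ?_, fun a => ⟨0, ?_⟩⟩
    · rw [eq_zero_of_inj _ q a, eq_zero_of_inj _ q b]
    · rw [eq_zero_of_inj _ q a, map_zero]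

theorem exists_δT_eq [Injective S.X₂] (n : ℕ) (x : HH Y ((EtCoh.push f).obj S.X₁) (n + 1)) :
    ∃ y, δT f hS n y = x := by
  have := push_injective f S.X₂
  exact (ExtMap.exact_δf (shortExact_T (R := EtCoh.push f) hS) (EtCoh.const Y ℤ) rfl x).1
    (eq_zero_of_inj (X := Y) ((EtCoh.push f).obj S.X₂) n _)

theorem δT_π (n : ℕ) (y : HH Y ((EtCoh.push f).obj S.X₂) n) :
    δT f hS n (HHmap (cokernel.π ((EtCoh.push f).map S.f)) n y) = 0 :=
  (ExtMap.exact_gδ (shortExact_T (R := EtCoh.push f) hS) (EtCoh.const Y ℤ) rfl _).2 ⟨y, rfl⟩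

include hS in
theorem edg_inj_step [Injective S.X₂] (q : ℕ) (hi : Function.Injective (edg f S.X₃ q))
    (hk : Function.Injective (HHmap (kap (EtCoh.push f) S) q)) :
    Function.Injective (edg f S.X₁ (q + 1)) := by
  rw [injective_iff_map_eq_zero]
  intro x hx
  obtain ⟨e, rfl⟩ := exists_δT_eq f hS q x
  rw [edg_δT] at hx
  obtain ⟨y, hy⟩ := exists_map_eq hS q _ hx
  obtain ⟨y, rfl⟩ := (edg_inj_surj f S.X₂ q).2 y
  rw [← edg_map, ← π_kap, HHmap_comp] at hy
  rw [← hk (hi hy), δT_π]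

include hS in
theorem edg_surj_step [Injective S.X₂] (q : ℕ) (hi : Function.Surjective (edg f S.X₃ q))
    (hk : Function.Surjective (HHmap (kap (EtCoh.push f) S) q)) :
    Function.Surjective (edg f S.X₁ (q + 1)) := by
  intro y
  obtain ⟨z, rfl⟩ := exists_dl_eq hS q y (eq_zero_of_inj _ q _)
  obtain ⟨z, rfl⟩ := hi z
  obtain ⟨z, rfl⟩ := hk z
  exact ⟨δT f hS q z, edg_δT f hS q z⟩

include hS in
theorem isIso_kap (h : Epi ((EtCoh.push f).map S.g)) : IsIso (kap (EtCoh.push f) S) := by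
  have h1 := mono_kap (R := EtCoh.push f) hS
  have h2 : Epi (kap (EtCoh.push f) S) := by
    have h3 : Epi (cokernel.π ((EtCoh.push f).map S.f) ≫ kap (EtCoh.push f) S) := by
      rw [π_kap]; exact h
    exact epi_of_epi (cokernel.π ((EtCoh.push f).map S.f)) _
  exact isIso_of_mono_of_epi _

theorem locZero_injSeq (N : EtCoh.Ab X) (q : ℕ) (hq : 1 ≤ q) (h : LocZero f N (q + 1)) :
    LocZero f (injSeq N).X₃ q := by
  obtain ⟨q, rfl⟩ : ∃ q', q = q' + 1 := ⟨q - 1, by omega⟩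
  exact locZero_of_succ f (injSeq_shortExact N) (q + 1) (fun V x => eq_zero_of_injective _ _ q x) h

/-- **Truncated Leray**: if `R^q f_* N = 0` for `1 ≤ q ≤ m`, the edge maps are bijective in degrees `≤ m`
and injective in degree `m + 1`. -/
theorem edg_low (m : ℕ) : ∀ (N : EtCoh.Ab X), (∀ q, 1 ≤ q → q ≤ m → LocZero f N q) →
    (∀ q, q ≤ m → Function.Bijective (edg f N q)) ∧ Function.Injective (edg f N (m + 1)) := by
  induction m with
  | zero =>
    intro N _
    refine ⟨fun q hq => ?_, ?_⟩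
    · obtain rfl : q = 0 := by omega
      exact edg_zero_bijective f N
    · have := mono_kap (R := EtCoh.push f) (injSeq_shortExact N)
      exact edg_inj_step f (injSeq_shortExact N) 0 (edg_zero_bijective f _).1
        (HHmap_injective_of_mono _)
  | succ m ih =>
    intro N hN
    have h1 := epi_of_locZero_one f (injSeq_shortExact N) (hN 1 le_rfl (by omega))
    have h2 := isIso_kap f (injSeq_shortExact N) h1
    have h3 := ih (injSeq N).X₃ (fun q hq hq' => locZero_injSeq f N q hq (hN _ (by omega) (by omega)))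
    refine ⟨fun q hq => ?_, edg_inj_step f (injSeq_shortExact N) (m + 1) h3.2 (HHmap_bijective _ _).1⟩
    obtain _ | q := q
    · exact edg_zero_bijective f N
    · exact ⟨edg_inj_step f (injSeq_shortExact N) q (h3.1 q (by omega)).1 (HHmap_bijective _ _).1,
        edg_surj_step f (injSeq_shortExact N) q (h3.1 q (by omega)).2 (HHmap_bijective _ _).2⟩

end Low

section Dies

/-- `ξ ∈ H^n(X, N)` dies étale locally on `Y`. -/
def Dies (N : EtCoh.Ab X) (n : ℕ) (ξ : HH X N n) : Prop :=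
  ∀ y : Y, ∃ (V : Y.Etale) (v : V.left), V.hom v = y ∧ hp (pr f V) N n ξ = 0

/-- The top object of the small étale site maps from everything. -/
noncomputable def toTop (V : Y.Etale) : V ⟶ EtCoh.top Y :=
  MorphismProperty.Over.homMk V.hom (by exact Category.comp_id _)

theorem toTop_left (V : Y.Etale) : (toTop V).left = V.hom := rfl

variable {S : ShortComplex (EtCoh.Ab X)} (hS : S.ShortExact)

theorem counit_unitSec (N : EtCoh.Ab X) (σ : EtCoh.sect ((EtCoh.push f).obj N) (EtCoh.top Y)) :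
    ((EtCoh.pullPushAdj f).counit.app N).hom.app (op (EtCoh.top X))
      ((unitSec f ((EtCoh.push f).obj N)).hom σ) = N.obj.map (EtCore.bcTopIso f).inv.op σ := by
  have h1 := ConcreteCategory.congr_hom
    (((EtCoh.pullPushAdj f).counit.app N).hom.naturality (EtCore.bcTopIso f).inv.op)
    (((EtCoh.pullPushAdj f).unit.app ((EtCoh.push f).obj N)).hom.app (op (EtCoh.top Y)) σ)
  have h2 := congrArg (fun t => t.hom.app (op (EtCoh.top Y)) σ)
    ((EtCoh.pullPushAdj f).right_triangle_components N)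
  exact h1.trans (congrArg (N.obj.map (EtCore.bcTopIso f).inv.op) h2)

theorem H0_edg (N : EtCoh.Ab X) (x : HH Y ((EtCoh.push f).obj N) 0) :
    H0 X N (edg f N 0 x) = N.obj.map (EtCore.bcTopIso f).inv.op (H0 Y ((EtCoh.push f).obj N) x) :=
  (H0_map ((EtCoh.pullPushAdj f).counit.app N) (hp f ((EtCoh.push f).obj N) 0 x)).trans
    ((congrArg (fun t => ((EtCoh.pullPushAdj f).counit.app N).hom.app (op (EtCoh.top X)) t)
      (hp_zero f ((EtCoh.push f).obj N) x)).trans (counit_unitSec f N _))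

theorem sq_congr {T S : Scheme.{u}} (g : T ⟶ S) (G : EtCoh.Ab S) {V : S.Etale} {W : T.Etale}
    {q q' : W.left ⟶ V.left} (h : q = q') (hq : q ≫ V.hom = W.hom ≫ g)
    (hq' : q' ≫ V.hom = W.hom ≫ g) : SecPull.sq g G q hq = SecPull.sq g G q' hq' := by
  subst h; rfl

theorem bc_toTop_left (V : Y.Etale) :
    ((EtCoh.bc f).map (toTop V)).left = pr f V ≫ (EtCore.bcTopIso f).inv.left := by
  have h : (EtCoh.bc f).map (toTop V) = toTop ((EtCoh.bc f).obj V) ≫ (EtCore.bcTopIso f).inv :=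
    (EtCore.bcTopIsTerminal f).hom_ext _ _
  rw [h]
  rfl

/-- sections of `f_* N` over `Y` and classes in `H^0(X, N)`. -/
theorem hp_edg_zero (N : EtCoh.Ab X) (x : HH Y ((EtCoh.push f).obj N) 0) (V : Y.Etale) :
    hp (pr f V) N 0 (edg f N 0 x) =
      secP f N V (((EtCoh.push f).obj N).obj.map (toTop V).op (H0 Y ((EtCoh.push f).obj N) x)) := by
  apply (H0 _ ((EtCoh.pull (pr f V)).obj N)).injective
  rw [hp_zero, H0_edg, secP, H0_sec, unitSec_apply]
  have e0 : (pr f V ≫ (EtCore.bcTopIso f).inv.left) ≫ ((EtCoh.bc f).obj (EtCoh.top Y)).hom =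
      (EtCoh.top ((EtCoh.bc f).obj V).left).hom ≫ pr f V := by
    have h := EtpbcB.Big.et_w (EtCore.bcTopIso f).inv
    refine (Category.assoc _ _ _).trans ((congrArg (fun t => pr f V ≫ t) h).trans ?_)
    exact (Category.comp_id _).trans (Category.id_comp _).symm
  have e1 := ConcreteCategory.congr_hom (SecPull.sq_postcomp (pr f V) N
    (V := EtCoh.top X) (V' := (EtCoh.bc f).obj (EtCoh.top Y)) (W := EtCoh.top _) (pr f V)
    ((Category.comp_id _).trans (Category.id_comp _).symm) (EtCore.bcTopIso f).inv e0)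
    (H0 Y ((EtCoh.push f).obj N) x)
  have e2' : (𝟙 _ ≫ ((EtCoh.bc f).map (toTop V)).left) ≫ ((EtCoh.bc f).obj (EtCoh.top Y)).hom =
      (EtCoh.top ((EtCoh.bc f).obj V).left).hom ≫ pr f V := by
    rw [Category.id_comp, bc_toTop_left]
    exact e0
  have e2 := ConcreteCategory.congr_hom (SecPull.sq_postcomp (pr f V) N
    (V := (EtCoh.bc f).obj V) (V' := (EtCoh.bc f).obj (EtCoh.top Y)) (W := EtCoh.top _) (𝟙 _)
    (sq_cond (pr f V) (𝟙 _) (Category.id_comp _)) ((EtCoh.bc f).map (toTop V)) e2')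
    (H0 Y ((EtCoh.push f).obj N) x)
  have e3 : pr f V ≫ (EtCore.bcTopIso f).inv.left = 𝟙 _ ≫ ((EtCoh.bc f).map (toTop V)).left :=
    (bc_toTop_left f V).symm.trans (Category.id_comp _).symm
  exact e1.trans ((ConcreteCategory.congr_hom (sq_congr (pr f V) N e3 e0 e2') _).trans e2.symm)

include hS in
/-- A section of `f_* X₃` which lifts to `f_* X₂` étale locally on `Y` lifts to the image sheaf. -/
theorem exists_lift (s : HH X S.X₃ 0) (h : ∀ y : Y, ∃ (V : Y.Etale) (v : V.left), V.hom v = y ∧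
      ∃ t, map S.g (pr f V) 0 t = hp (pr f V) S.X₃ 0 s) :
    ∃ e : HH Y (Bc (EtCoh.push f) S) 0, edg f S.X₃ 0 (HHmap (kap (EtCoh.push f) S) 0 e) = s := by
  obtain ⟨x, rfl⟩ := (edg_zero_bijective f S.X₃).2 s
  have hK := shortExact_K (R := EtCoh.push f) hS
  have h0 : HHmap (cokernel.π (kap (EtCoh.push f) S)) 0 x = 0 := by
    apply (H0 Y _).injective
    rw [H0_map, map_zero]
    refine Groth.Agent.Etrest.Site0.eq_zero_of_local _ _ _ fun y => ?_
    obtain ⟨V, v, hv, t, ht⟩ := h y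
    refine ⟨V, toTop V, ⟨v, hv⟩, ?_⟩
    obtain ⟨t, rfl⟩ := (secP_bijective f S.X₂ V).2 t
    rw [hp_edg_zero, map_secP] at ht
    have h1 := (secP_bijective f S.X₃ V).1 ht
    have h2 := ConcreteCategory.congr_hom
      ((cokernel.π (kap (EtCoh.push f) S)).hom.naturality (toTop V).op) (H0 Y _ x)
    refine h2.symm.trans ?_
    have h3 : (EtCoh.push f).map S.g ≫ cokernel.π (kap (EtCoh.push f) S) = 0 := by
      rw [← π_kap, Category.assoc, cokernel.condition, comp_zero]
    have h4 := congrArg (fun φ => φ.hom.app (op V) t) h3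
    refine Eq.trans ?_ h4
    exact congrArg ((cokernel.π (kap (EtCoh.push f) S)).hom.app (op V)) h1.symm
  obtain ⟨e, he⟩ := Ext.covariant_sequence_exact₂ (EtCoh.const Y ℤ) hK x h0
  exact ⟨e, congrArg (edg f S.X₃ 0) he⟩

include hS in
theorem dies_dl [Injective S.X₂] (n : ℕ) (η : HH X S.X₃ (n + 1)) (h : Dies f S.X₁ (n + 2) (dl hS (n + 1) η)) :
    Dies f S.X₃ (n + 1) η := by
  intro y
  obtain ⟨V, v, hv, h0⟩ := h y
  refine ⟨V, v, hv, ?_⟩
  rw [hp_dl] at h0
  obtain ⟨y, hy⟩ := Etcore.HQ.exists_map_eq hS (pr f V) (n + 1) _ h0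
  rw [← hy, eq_zero_of_injective S.X₂ (pr f V) n y, map_zero]

include hS in
theorem exists_lift_of_dies (s : HH X S.X₃ 0) (h : Dies f S.X₁ 1 (dl hS 0 s)) :
    ∃ e : HH Y (Bc (EtCoh.push f) S) 0, edg f S.X₃ 0 (HHmap (kap (EtCoh.push f) S) 0 e) = s := by
  refine exists_lift f hS s fun y => ?_
  obtain ⟨V, v, hv, h0⟩ := h y
  rw [hp_dl] at h0
  exact ⟨V, v, hv, Etcore.HQ.exists_map_eq hS (pr f V) 0 _ h0⟩

/-- **Range of the edge map**: if `R^q f_* N = 0` for `1 ≤ q ≤ m` then every class in `H^{m+1}(X, N)` which dies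
étale locally on `Y` comes from `H^{m+1}(Y, f_* N)`. -/
theorem locRange (m : ℕ) : ∀ (N : EtCoh.Ab X), (∀ q, 1 ≤ q → q ≤ m → LocZero f N q) →
    ∀ ξ : HH X N (m + 1), Dies f N (m + 1) ξ → ∃ η, edg f N (m + 1) η = ξ := by
  induction m with
  | zero =>
    intro N _ ξ hξ
    obtain ⟨s, rfl⟩ := exists_dl_eq (injSeq_shortExact N) 0 ξ (eq_zero_of_inj _ 0 _)
    obtain ⟨e, he⟩ := exists_lift_of_dies f (injSeq_shortExact N) s hξ
    refine ⟨δT f (injSeq_shortExact N) 0 e, ?_⟩
    refine (edg_δT f (injSeq_shortExact N) 0 e).trans ?_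
    rw [he]
  | succ m ih =>
    intro N hN ξ hξ
    obtain ⟨η, rfl⟩ := exists_dl_eq (injSeq_shortExact N) (m + 1) ξ (eq_zero_of_inj _ (m + 1) _)
    have h1 := epi_of_locZero_one f (injSeq_shortExact N) (hN 1 le_rfl (by omega))
    have h2 := isIso_kap f (injSeq_shortExact N) h1
    obtain ⟨η, rfl⟩ := ih (injSeq N).X₃
      (fun q hq hq' => locZero_injSeq f N q hq (hN _ (by omega) (by omega))) η
      (dies_dl f (injSeq_shortExact N) m η hξ)
    obtain ⟨η, rfl⟩ := (HHmap_bijective (kap (EtCoh.push f) (injSeq N)) (m + 1)).2 η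
    exact ⟨δT f (injSeq_shortExact N) (m + 1) η, edg_δT f (injSeq_shortExact N) (m + 1) η⟩

/-- If `H^1(Y, G) = 0` for all `G`, classes of positive degree which die étale locally on `Y` are zero. -/
theorem eq_zero_of_dies (hY : ∀ (G : EtCoh.Ab Y) (x : HH Y G 1), x = 0) (m : ℕ) :
    ∀ (N : EtCoh.Ab X) (ξ : HH X N (m + 1)), Dies f N (m + 1) ξ → ξ = 0 := by
  induction m with
  | zero =>
    intro N ξ hξ
    obtain ⟨s, rfl⟩ := exists_dl_eq (injSeq_shortExact N) 0 ξ (eq_zero_of_inj _ 0 _)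
    obtain ⟨e, rfl⟩ := exists_lift_of_dies f (injSeq_shortExact N) s hξ
    refine (edg_δT f (injSeq_shortExact N) 0 e).symm.trans ?_
    rw [hY _ (δT f (injSeq_shortExact N) 0 e), map_zero]
    rfl
  | succ m ih =>
    intro N ξ hξ
    obtain ⟨η, rfl⟩ := exists_dl_eq (injSeq_shortExact N) (m + 1) ξ (eq_zero_of_inj _ (m + 1) _)
    rw [ih _ η (dies_dl f (injSeq_shortExact N) m η hξ), map_zero]
    rfl

end Dies

end Groth.Agent.Etbc.H194.Edge
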