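import Groth.Agent.EtpbcB.TorsEtN
import Groth.Agent.Etbase.EtSections
import Groth.Agent.Etrest.Site0
import Groth.Agent.EtpbcB.Big
import Groth.Agent.Etcore.SecPull
import Groth.Prelude.Def_EtAcyc

/-!
# Direct images of `L`-torsion sheaves along quasi-compact morphisms
-/

set_option autoImplicit false
universe u
open CategoryTheory CategoryTheory.Limits AlgebraicGeometry Opposite

namespace Groth.Agent.Etbc.H194.PushTors

open Groth.Agent.EtpbcB.TorsEtN Groth.Agent.EtpbcB.TorsSubN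

variable {X Y : Scheme.{u}}

theorem isOrd_primesIn (L : Set ℕ) : IsOrd {m | EtAcyc.PrimesIn L m} where
  one_mem := ⟨one_pos, fun _ hp h => (hp.one_lt.ne' (Nat.dvd_one.1 h)).elim⟩
  mul_mem := fun hm hn => ⟨Nat.mul_pos hm.1 hn.1, fun p hp h =>
    (hp.dvd_mul.1 h).elim (hm.2 p hp) (hn.2 p hp)⟩
  of_dvd := fun h hn => ⟨Nat.pos_of_dvd_of_pos h hn.1, fun p hp hpm => hn.2 p hp (hpm.trans h)⟩
  pos := fun h => h.1

theorem isLTorsion_iff (L : Set ℕ) (F : EtCoh.Ab X) :
    EtAcyc.IsLTorsion L F ↔ TorsionN {m | EtAcyc.PrimesIn L m} F := Iff.rfl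

/-- Sections of an `N`-torsion sheaf over a quasi-compact étale scheme are killed by an element of `N`. -/
theorem exists_smul_eq_zero_of_compact {N : Set ℕ} (hN : IsOrd N) (F : EtCoh.Ab X) (hF : TorsionN N F)
    (U : X.Etale) [CompactSpace U.left] (s : EtCoh.sect F U) : ∃ m ∈ N, m • s = 0 := by
  classical
  let W : N → Set U.left := fun m => {x | Etbase.EtSections.VanishesAt F U ((m : ℕ) • s) x}
  have hW : ∀ m, IsOpen (W m) := fun m => Etbase.EtSections.isOpen_vanishesAt F U _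
  have hcov : (⋃ m, W m) = Set.univ := by
    rw [Set.eq_univ_iff_forall]
    intro x
    obtain ⟨V, g, m, ⟨v, hv⟩, hm, hg⟩ := hF U s x
    refine Set.mem_iUnion.2 ⟨⟨m, hm⟩, V, g, v, hv, ?_⟩
    rw [map_nsmul]
    exact hg
  obtain ⟨T, hT⟩ := isCompact_univ.elim_finite_subcover W hW (by rw [hcov])
  have hprod : ∀ T : Finset N, (∏ m ∈ T, (m : ℕ)) ∈ N := by
    intro T
    induction T using Finset.induction_on with
    | empty => simpa using hN.one_mem
    | insert a T ha ih => rw [Finset.prod_insert ha]; exact hN.mul_mem a.2 ih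
  refine ⟨∏ m ∈ T, (m : ℕ), hprod T, ?_⟩
  apply Etbase.EtSections.eq_zero_of_vanishesAt F U
  intro x
  obtain ⟨m, hm⟩ := Set.mem_iUnion.1 (hT (Set.mem_univ x))
  obtain ⟨hmT, V, g, v, hv, h0⟩ := Set.mem_iUnion.1 hm
  refine ⟨V, g, v, hv, ?_⟩
  obtain ⟨c, hc⟩ := Finset.dvd_prod_of_mem (fun m : N => (m : ℕ)) hmT
  rw [hc, mul_comm, mul_smul, map_nsmul, h0, smul_zero]

theorem compactSpace_pullback {A : Scheme.{u}} (g : A ⟶ Y) (f : X ⟶ Y) [QuasiCompact f]
    (_ : IsAffine A) : CompactSpace ↥(pullback g f) :=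
  QuasiCompact.compactSpace_of_compactSpace (pullback.fst g f)

theorem compactSpace_bc (f : X ⟶ Y) [QuasiCompact f] (U : Y.Etale) (hU : IsAffine U.left) :
    CompactSpace ((EtCoh.bc f).obj U).left :=
  compactSpace_pullback (A := U.left) U.hom f hU

/-- `f_* F` is `N`-torsion for `F` `N`-torsion and `f` quasi-compact. -/
theorem torsionN_push {N : Set ℕ} (hN : IsOrd N) (f : X ⟶ Y) [QuasiCompact f] (F : EtCoh.Ab X)
    (hF : TorsionN N F) : TorsionN N ((EtCoh.push f).obj F) := by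
  intro U s x
  obtain ⟨V, g, hV, -, v, hv⟩ := Groth.Agent.Etrest.Site0.exists_affine U x
  have := compactSpace_bc f V hV
  obtain ⟨m, hm, h⟩ := exists_smul_eq_zero_of_compact hN F hF ((EtCoh.bc f).obj V)
    (((EtCoh.push f).obj F).obj.map g.op s)
  exact ⟨V, g, m, ⟨v, hv⟩, hm, h⟩

/-- `f_* F` is `L`-torsion for `F` `L`-torsion and `f` quasi-compact. -/
theorem isLTorsion_push (L : Set ℕ) (f : X ⟶ Y) [QuasiCompact f] (F : EtCoh.Ab X)
    (hF : EtAcyc.IsLTorsion L F) : EtAcyc.IsLTorsion L ((EtCoh.push f).obj F) :=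
  torsionN_push (isOrd_primesIn L) f F hF

theorem isLTorsion_pull (L : Set ℕ) (f : X ⟶ Y) (F : EtCoh.Ab Y) (hF : EtAcyc.IsLTorsion L F) :
    EtAcyc.IsLTorsion L ((EtCoh.pull f).obj F) := torsionN_pull _ f F hF

theorem isLTorsion_of_epi (L : Set ℕ) {F G : EtCoh.Ab X} (φ : F ⟶ G) [Epi φ]
    (hF : EtAcyc.IsLTorsion L F) : EtAcyc.IsLTorsion L G := torsionN_of_epi φ hF

end Groth.Agent.Etbc.H194.PushTors
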