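import Groth.Agent.Etbc.H194.Edge
import Groth.Agent.Etbc.H194.PushTors
import Groth.Agent.EtpbcB.SurjFaithful
import Groth.Agent.Etcore.HpullEq

/-!
# The main diagram chase for S3476

`mem_range_of_cover`: `g : X ⟶ Y` with `CompN g L m`, `r : P ⟶ Y` surjective and quasi-compact, `ξ ∈ H^{m+1}(X, g⁻¹ F)`
with zero image in `H^{m+1}(X ×_Y P, F)`; if base change for `r` along `g` holds (in degree `0`, and
`R^q r'_* = 0` for `1 ≤ q ≤ m`), then `ξ` comes from `H^{m+1}(Y, F)`.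
-/

set_option autoImplicit false
universe u
open CategoryTheory CategoryTheory.Limits AlgebraicGeometry Opposite Abelian
open scoped Groth.Agent.Etcore.EtInst
open Groth.Agent.Etcore Groth.Agent.Etcore.EtInst Groth.Agent.Etcore.HpullCalc

namespace Groth.Agent.Etbc.H194.Chase

open Groth.Agent.Etcore.HQ Groth.Agent.Etcore.RpushLoc Groth.Agent.Etbc.H194.Edge

attribute [local instance] pfl

variable {X Y : Scheme.{u}} (g : X ⟶ Y)

theorem injective_Hpull_iff (F : EtCoh.Ab Y) (n : ℕ) :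
    Function.Injective (EtCore.Hpull g F n) ↔ Function.Injective (hp g F n) := Iff.rfl

/-- `CompN` in terms of `hp`. -/
theorem compN_hp {L : Set ℕ} {m : ℕ} (h : EtAcyc.CompN g L m) (F : EtCoh.Ab Y)
    (hF : EtAcyc.IsLTorsion L F) :
    (∀ q : ℕ, q ≤ m → Function.Bijective (hp g F q)) ∧ Function.Injective (hp g F (m + 1)) :=
  ⟨fun q hq => (bijective_Hpull_iff g F q).1 ((h F hF).1 q hq),
    (injective_Hpull_iff g F (m + 1)).1 (h F hF).2⟩

variable {g}

/-- If `ξ` dies in the larger sheaf `G`, it comes from `Y`. -/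
theorem mem_range_of_mono {L : Set ℕ} {m : ℕ} (hg : EtAcyc.CompN g L m) {F G : EtCoh.Ab Y}
    (φ : F ⟶ G) [Mono φ] (hG : EtAcyc.IsLTorsion L G) (ξ : HH X ((EtCoh.pull g).obj F) (m + 1))
    (h : HHmap ((EtCoh.pull g).map φ) (m + 1) ξ = 0) : ∃ η : HH Y F (m + 1), hp g F (m + 1) η = ξ := by
  let S : ShortComplex (EtCoh.Ab Y) := ShortComplex.mk φ (cokernel.π φ) (cokernel.condition _)
  have hS : S.ShortExact :=
    { exact := ShortComplex.exact_of_g_is_cokernel _ (cokernelIsCokernel _)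
      mono_f := inferInstanceAs (Mono φ)
      epi_g := inferInstanceAs (Epi (cokernel.π φ)) }
  obtain ⟨y, hy⟩ := HQ.exists_δ_eq hS g m ξ h
  have hQ : EtAcyc.IsLTorsion L S.X₃ := PushTors.isLTorsion_of_epi L (cokernel.π φ) hG
  obtain ⟨z, hz⟩ := ((compN_hp g hg S.X₃ hQ).1 m le_rfl).2 y
  exact ⟨dl hS m z, by rw [← hy, ← hz]; exact hp_dl hS g m z⟩

variable {P XP : Scheme.{u}} {r : P ⟶ Y} {g' : XP ⟶ P} {r' : XP ⟶ X}

theorem mem_range_of_cover [Surjective r] [QuasiCompact r] (w : g' ≫ r = r' ≫ g)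
    {L : Set ℕ} {m : ℕ} (hg : EtAcyc.CompN g L m) (F : EtCoh.Ab Y) (hF : EtAcyc.IsLTorsion L F)
    (hb : IsIso (EtCoh.baseChange0 r g r' g' w ((EtCoh.pull r).obj F)))
    (hR : ∀ q, 1 ≤ q → q ≤ m → LocZero r' ((EtCoh.pull g').obj ((EtCoh.pull r).obj F)) q)
    (ξ : HH X ((EtCoh.pull g).obj F) (m + 1)) (hξ : hp r' _ (m + 1) ξ = 0) :
    ∃ η : HH Y F (m + 1), hp g F (m + 1) η = ξ := by
  have hm : Mono ((EtCoh.pullPushAdj r).unit.app F) := EtpbcB.SurjFaithful.mono_unit r F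
  refine mem_range_of_mono hg ((EtCoh.pullPushAdj r).unit.app F)
    (PushTors.isLTorsion_push L r _ (PushTors.isLTorsion_pull L r F hF)) ξ ?_
  have h1 : HHmap ((EtCoh.pull g).map ((EtCoh.pullPushAdj r).unit.app F) ≫
      EtCoh.baseChange0 r g r' g' w ((EtCoh.pull r).obj F)) (m + 1) ξ = 0 := by
    apply (edg_low r' m _ hR).2
    refine (edg_homEquiv r' _ (m + 1) ξ).trans ?_
    refine (congrArg _ hξ).trans ?_
    rw [map_zero, map_zero]
  rw [HHmap_comp] at h1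
  exact (HHmap_bijective (EtCoh.baseChange0 r g r' g' w ((EtCoh.pull r).obj F)) (m + 1)).1
    (h1.trans (map_zero _).symm)

end Groth.Agent.Etbc.H194.Chase
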