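import Groth.Agent.Etbc.H194.StrictDies
import Groth.Agent.Etbc.H188.ZDBase
import Groth.Prelude.Def_EtAcyc

/-!
# Classes vanishing on the geometric fibres vanish over zero-dimensional covers

`g : X ⟶ Y`, `ξ ∈ H^{m+1}(X, N)` vanishing on all `X ×_Y Spec Ω` (`Ω` separably closed, algebraic over the residue
field), `b : P ⟶ Y` with `P` a zero-dimensional base and algebraic residue extensions: `ξ` vanishes on `X ×_Y P`.
-/

set_option autoImplicit false
universe u
open CategoryTheory CategoryTheory.Limits AlgebraicGeometry Opposite Abelian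
open scoped Groth.Agent.Etcore.EtInst
open Groth.Agent.Etcore Groth.Agent.Etcore.EtInst Groth.Agent.Etcore.HpullCalc

namespace Groth.Agent.Etbc.H194.FibVan

open Groth.Agent.Etcore.HQ Groth.Agent.Etcore.RpushLoc
open Groth.Agent.Etbc.H188.ZDBase Groth.Agent.Etbc.H194.StrictDies Groth.Agent.Etbc.H194.Edge
open Groth.Agent.Etrest.StrictLoc
open Groth.Agent.EtpbcB.StrictLoc (Osh toBase pt pt_default pt_toBase)

attribute [local instance] pfl

section factor

variable {P : Scheme.{u}}

theorem toBase_closedPoint {Ω : Type u} [Field Ω] [IsSepClosed Ω] (ζ : Spec (CommRingCat.of Ω) ⟶ P) :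
    toBase ζ (IsLocalRing.closedPoint (Osh ζ)) = ζ default := by
  have h1 := congrArg (fun q : Spec (CommRingCat.of Ω) ⟶ P => q default) (pt_toBase ζ)
  have h2 : (pt ζ ≫ toBase ζ) default = toBase ζ (pt ζ default) := Scheme.Hom.comp_apply _ _ _
  rw [← pt_default ζ, ← h2]
  exact h1

theorem isIso_spec_residue (t : P) (h : IsField (P.presheaf.stalk t)) :
    IsIso (Spec.map (P.residue t)) := by
  have h1 : IsIso (P.residue t) := (ConcreteCategory.isIso_iff_bijective _).2 (bijective_residue h)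
  infer_instance

theorem exists_factor (hP : IsZD P) (t : P) {R : Type u} [CommRing R] [IsLocalRing R]
    (τ : Spec (CommRingCat.of R) ⟶ P) (h : τ (IsLocalRing.closedPoint R) = t) :
    ∃ c : Spec (CommRingCat.of R) ⟶ Spec (P.residueField t), c ≫ P.fromSpecResidueField t = τ := by
  obtain ⟨φ, -, hφ⟩ := exists_stalk_hom τ t h
  have := isIso_spec_residue t (hP.isField t)
  refine ⟨Spec.map (CommRingCat.ofHom φ) ≫ inv (Spec.map (P.residue t)), ?_⟩
  rw [Category.assoc, Scheme.fromSpecResidueField, IsIso.inv_hom_id_assoc]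
  exact hφ

theorem exists_factor' (hP : IsZD P) (t : P) {R : CommRingCat.{u}} [IsLocalRing R]
    (τ : Spec R ⟶ P) (h : τ (IsLocalRing.closedPoint R) = t) :
    ∃ c : Spec R ⟶ Spec (P.residueField t), c ≫ P.fromSpecResidueField t = τ :=
  exists_factor hP t (R := R) τ h

end factor

variable {X Y : Scheme.{u}} (g : X ⟶ Y)

/-- The class `ξ` vanishes on the algebraic geometric fibres. -/
def FibVan (N : EtCoh.Ab X) (n : ℕ) (ξ : HH X N n) : Prop :=
  ∀ (y : Y) (Ω : Type u) [Field Ω] [IsSepClosed Ω] [Algebra (Y.residueField y) Ω]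
    [Algebra.IsAlgebraic (Y.residueField y) Ω],
    hp (pullback.fst g (EtAcyc.geomPt Y y Ω)) N n ξ = 0

variable {P XP : Scheme.{u}} {b : P ⟶ Y} {gP : XP ⟶ P} {b' : XP ⟶ X} (w : b' ≫ g = gP ≫ b)

include w in
/-- Vanishing on `X ×_Y T` when `T ⟶ Y` factors through `Spec κ(t)`. -/
theorem hp_eq_zero_of_point {N : EtCoh.Ab X} {n : ℕ} {ξ : HH X N n} (h : FibVan g N n ξ)
    (hP : IsZD P) (hb : AlgRes b) (t : P) {T : Scheme.{u}} (a : T ⟶ XP)
    (c : T ⟶ Spec (P.residueField t)) (hc : a ≫ gP = c ≫ P.fromSpecResidueField t) :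
    hp (a ≫ b') N n ξ = 0 := by
  let _ : Algebra (Y.residueField (b t)) (P.residueField t) := (b.residueFieldMap t).hom.toAlgebra
  have halg : Algebra.IsAlgebraic (Y.residueField (b t)) (P.residueField t) := hb t
  have hsep : IsSepClosed (P.residueField t) := hP.sepClosed t
  have e : EtAcyc.geomPt Y (b t) (P.residueField t) = P.fromSpecResidueField t ≫ b :=
    Scheme.Hom.SpecMap_residueFieldMap_fromSpecResidueField b t
  have hk : (a ≫ b') ≫ g = c ≫ EtAcyc.geomPt Y (b t) (P.residueField t) := by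
    rw [e, Category.assoc, w, ← Category.assoc, hc, Category.assoc]
  exact hp_eq_zero_of_factor (pullback.lift (a ≫ b') c hk)
    (pullback.fst g (EtAcyc.geomPt Y (b t) (P.residueField t))) (a ≫ b')
    (pullback.lift_fst _ _ _) N n ξ (h (b t) (P.residueField t))

include w in
/-- Local vanishing at a geometric point. -/
theorem exists_dies_point [QuasiCompact gP] [QuasiSeparated gP] (hP : IsZD P) (hb : AlgRes b)
    {N : EtCoh.Ab X} {n : ℕ} {ξ : HH X N n} (h : FibVan g N n ξ) {Ω : Type u} [Field Ω]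
    [IsSepClosed Ω] (ζ : Spec (CommRingCat.of Ω) ⟶ P) :
    ∃ (V : P.Etale) (v : V.left), V.hom v = ζ default ∧ hp (pr gP V) _ n (hp b' N n ξ) = 0 := by
  obtain ⟨c, hc⟩ := exists_factor' hP (ζ default) (toBase ζ) (toBase_closedPoint ζ)
  exact exists_dies ζ gP (IsPullback.of_hasPullback gP (toBase ζ))
      ((EtCoh.pull b').obj N) n (hp b' N n ξ)
      ((hp_hp_eq_zero_iff (pullback.fst gP (toBase ζ)) b' _ rfl N n ξ).2
        (hp_eq_zero_of_point g w h hP hb (ζ default) (pullback.fst gP (toBase ζ))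
          (pullback.snd gP (toBase ζ) ≫ c) (by rw [pullback.condition, Category.assoc, hc])))

include w in
/-- **Vanishing over a zero-dimensional base.** -/
theorem hp_eq_zero [QuasiCompact gP] [QuasiSeparated gP] (hP : IsZD P) (hb : AlgRes b)
    {N : EtCoh.Ab X} {m : ℕ} {ξ : HH X N (m + 1)} (h : FibVan g N (m + 1) ξ) :
    hp b' N (m + 1) ξ = 0 := by
  refine eq_zero_of_dies gP (fun G x => ?_) m _ _ fun t => ?_
  · have h1 : Subsingleton (HH P G 1) := hP.subsingleton_H G 1 one_pos
    exact Subsingleton.elim _ _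
  · obtain ⟨Ω, _, _, ζ, hζ⟩ := EtpbcA.StalkTools.exists_geomPt t
    obtain ⟨V, v, hv, h0⟩ := exists_dies_point g w hP hb h ζ
    exact ⟨V, v, hv.trans hζ, h0⟩

end Groth.Agent.Etbc.H194.FibVan
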