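import Groth.Agent.Etbc.H194.Global
import Groth.Agent.Etbc.H194.FibVan
import Groth.Agent.Etbc.H189.GeomFib
import Groth.Agent.Etbc.H188.BaseChangeR
import Groth.Agent.Etbc.H198.WeBC
import Groth.Agent.Etrest.SHPoint

/-!
# S3476 from base change along zero-dimensional covers
-/

set_option autoImplicit false
universe u
open CategoryTheory CategoryTheory.Limits AlgebraicGeometry Opposite Abelian
open scoped Groth.Agent.Etcore.EtInst
open Groth.Agent.Etcore Groth.Agent.Etcore.EtInst Groth.Agent.Etcore.HpullCalc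

namespace Groth.Agent.Etbc.H194.Final

open Groth.Agent.Etcore.HQ Groth.Agent.Etcore.RpushLoc Groth.Agent.Etcore.PullCoh
  Groth.Agent.Etbc.H194.Edge Groth.Agent.Etbc.H194.Global Groth.Agent.Etbc.H228.Converse
  Groth.Agent.Etbc.H194.FibVan Groth.Agent.Etbc.H188.ZDBase Groth.Agent.Etbc.H194.StrictDies

attribute [local instance] pfl

variable {X Y : Scheme.{u}} {g : X ⟶ Y} {L : Set ℕ} {m : ℕ}

theorem hloc_local [QuasiCompact g] [QuasiSeparated g] (hL : ∃ ℓ ∈ L, ℓ.Prime)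
    (hloc : EtAcyc.IsLocAcyclicN g L m) {X₁ Y₁ : Scheme.{u}} (g₁ : X₁ ⟶ Y₁) (b' : X₁ ⟶ X) (b : Y₁ ⟶ Y)
    [WeaklyEtale b] (sq : IsPullback b' g₁ g b) :
    EtAcyc.OnStrictLocalizations g₁ (fun _ _ h => EtAcyc.GeomFibresAcyclicN L m h) := by
  have h1 : EtAcyc.IsLocAcyclicN g₁ L m := H198.WeBC.of_weaklyEtale hloc g₁ b' b sq
  intro x RY RX _ _ _ _ _ _ _ _ _ _ _ _ hc
  exact H189.GeomFib.geomFibresAcyclicN _ hL (h1 x RY RX hc)

/-- The local statement over an affine étale `V ⟶ Y`. -/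
theorem exists_local [QuasiCompact g] [QuasiSeparated g] (hL : ∃ ℓ ∈ L, ℓ.Prime)
    (hglob : EtAcyc.IsAcyclicN g L m) (hloc : EtAcyc.IsLocAcyclicN g L m) (F : EtCoh.Ab Y)
    (hF : EtAcyc.IsLTorsion L F) (ξ : HH X ((EtCoh.pull g).obj F) (m + 1))
    (hfib : FibVan g ((EtCoh.pull g).obj F) (m + 1) ξ) (V : Y.Etale) (hV : IsAffine V.left) :
    ∃ η : HQ F V.hom (m + 1), cW g F V (m + 1) η = cl g F V (m + 1) ξ := by
  have i1 : QuasiCompact (pW g V) := inferInstanceAs (QuasiCompact (pullback.fst V.hom g))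
  have i2 : QuasiSeparated (pW g V) := inferInstanceAs (QuasiSeparated (pullback.fst V.hom g))
  obtain ⟨P, r, hP, hr, i3, i4⟩ := exists_cover V.left
  let gP := pullback.snd (pW g V) r
  let r' := pullback.fst (pW g V) r
  have sq : IsPullback r' gP (pW g V) r := IsPullback.of_hasPullback (pW g V) r
  have sqV : IsPullback (pr g V) (pW g V) g V.hom := (IsPullback.of_hasPullback V.hom g).flip
  have hb : AlgRes (r ≫ V.hom) := hr.comp (algRes_of_weaklyEtale V.hom)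
  have w : (r' ≫ pr g V) ≫ g = gP ≫ r ≫ V.hom := by
    rw [Category.assoc, sqV.w, ← Category.assoc, sq.w, Category.assoc]
  have h0 : hp (r' ≫ pr g V) _ (m + 1) ξ = 0 := FibVan.hp_eq_zero g w hP hb hfib
  have hF' : EtAcyc.IsLTorsion L ((EtCoh.pull V.hom).obj F) := PushTors.isLTorsion_pull L V.hom F hF
  have hloc' := hloc_local hL hloc (pW g V) (pr g V) V.hom sqV
  have hE : EtAcyc.IsLTorsion L ((EtCoh.pull r).obj ((EtCoh.pull V.hom).obj F)) :=
    PushTors.isLTorsion_pull L r _ hF'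
  have hbc := H188.BaseChangeR.isIso_baseChange0 sq.flip hP hr hloc' hE
  have hR := H188.BaseChangeR.isZero_Rpush sq.flip hP hr hloc' hE
  obtain ⟨ξV, hξV⟩ := (HHmap_bijective (th (pW g V) V.hom (pr g V ≫ g) (pW_hom g V) F) (m + 1)).2
    (cl g F V (m + 1) ξ)
  have h1 : hp r' _ (m + 1) (hp (pr g V) ((EtCoh.pull g).obj F) (m + 1) ξ) = 0 :=
    (hp_hp_eq_zero_iff r' (pr g V) _ rfl _ (m + 1) ξ).2 h0
  have h2 : hp r' _ (m + 1) (cl g F V (m + 1) ξ) = 0 := by
    have h3 := hp_map r' (th (pr g V) g (pr g V ≫ g) rfl F) (m + 1)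
      (hp (pr g V) ((EtCoh.pull g).obj F) (m + 1) ξ)
    refine h3.trans ?_
    rw [h1, map_zero]
  have h3 : hp r' _ (m + 1) ξV = 0 := by
    apply (HHmap_bijective ((EtCoh.pull r').map
      (th (pW g V) V.hom (pr g V ≫ g) (pW_hom g V) F)) (m + 1)).1
    refine (hp_map r' (th (pW g V) V.hom (pr g V ≫ g) (pW_hom g V) F) (m + 1) ξV).symm.trans ?_
    exact (congrArg (fun t => hp r' ((EtCoh.pull (pr g V ≫ g)).obj F) (m + 1) t) hξV).trans
      (h2.trans (map_zero _).symm)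
  obtain ⟨η, hη⟩ := Chase.mem_range_of_cover sq.w.symm (hglob V) ((EtCoh.pull V.hom).obj F) hF' hbc
    (fun q hq hqm => by
      obtain ⟨q, rfl⟩ : ∃ q', q = q' + 1 := ⟨q - 1, by omega⟩
      exact (isZero_Rpush_iff r' _ q).1 (hR (q + 1) hq hqm)) ξV h3
  refine ⟨η, ?_⟩
  rw [← hξV, ← hη]
  exact res_apply F (pW g V) (pW_hom g V) (m + 1) η

/-- **The hard direction.** -/
theorem mem_range [QuasiCompact g] [QuasiSeparated g] (hL : ∃ ℓ ∈ L, ℓ.Prime)
    (hglob : EtAcyc.IsAcyclicN g L m) (hloc : EtAcyc.IsLocAcyclicN g L m) (F : EtCoh.Ab Y)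
    (hF : EtAcyc.IsLTorsion L F) (ξ : HH X ((EtCoh.pull g).obj F) (m + 1))
    (hfib : FibVan g ((EtCoh.pull g).obj F) (m + 1) ξ) :
    ∃ η : HH Y F (m + 1), hp g F (m + 1) η = ξ := by
  refine mem_range_of_local hglob F hF ξ fun y => ?_
  obtain ⟨V, k, hV, -, v, hv⟩ := Etrest.Site0.exists_affine (EtCoh.top Y) y
  refine ⟨V, v, ?_, exists_local hL hglob hloc F hF ξ hfib V hV⟩
  have h1 := congrArg (fun q : V.left ⟶ Y => q v) (EtpbcB.Big.et_w k)
  have h2 : (k.left ≫ (EtCoh.top Y).hom) v = k.left v :=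
    congrArg (fun q : V.left ⟶ Y => q v) (Category.comp_id (k.left : V.left ⟶ Y))
  exact h1.symm.trans (h2.trans hv)

theorem subsingleton_HH_point (Ω : Type u) [Field Ω] [IsSepClosed Ω]
    (G : EtCoh.Ab (Spec (CommRingCat.of Ω))) (n : ℕ) :
    Subsingleton (HH (Spec (CommRingCat.of Ω)) G (n + 1)) :=
  Etrest.SHPoint.subsingleton_H_of_sepClosed Ω G (n + 1) (Nat.succ_pos n)

/-- **The easy direction.** -/
theorem fibVan_of_mem_range (F : EtCoh.Ab Y) (η : HH Y F (m + 1)) :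
    FibVan g ((EtCoh.pull g).obj F) (m + 1) (hp g F (m + 1) η) := by
  intro y Ω _ _ _ _
  refine (hp_hp_eq_zero_iff (pullback.fst g (EtAcyc.geomPt Y y Ω)) g _ rfl F (m + 1) η).2 ?_
  refine hp_eq_zero_of_factor (pullback.snd g (EtAcyc.geomPt Y y Ω)) (EtAcyc.geomPt Y y Ω) _
    pullback.condition.symm F (m + 1) η ?_
  have := subsingleton_HH_point Ω ((EtCoh.pull (EtAcyc.geomPt Y y Ω)).obj F) m
  exact Subsingleton.elim _ _

end Groth.Agent.Etbc.H194.Final
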