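import Groth.Agent.Etbc.H194.Chase
import Groth.Agent.Etbc.H228.Converse

/-!
# Localization on the base for S3476

`mem_range_of_local`: `g : X ⟶ Y` `m`-acyclic for `L`, `ξ ∈ H^{m+1}(X, g⁻¹ F)`.  If étale locally on `Y` the class `ξ`
comes from the base, then it comes from `H^{m+1}(Y, F)`.
-/

set_option autoImplicit false
universe u
open CategoryTheory CategoryTheory.Limits AlgebraicGeometry Opposite Abelian
open scoped Groth.Agent.Etcore.EtInst
open Groth.Agent.Etcore Groth.Agent.Etcore.EtInst Groth.Agent.Etcore.HpullCalc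

namespace Groth.Agent.Etbc.H194.Global

open Groth.Agent.Etcore.HQ Groth.Agent.Etcore.RpushLoc Groth.Agent.Etcore.PullCoh
  Groth.Agent.Etbc.H194.Edge Groth.Agent.Etbc.H228.Converse

attribute [local instance] pfl

variable {X Y : Scheme.{u}} (g : X ⟶ Y) {L : Set ℕ} {m : ℕ}

variable {g} in
theorem bijective_cW (hg : EtAcyc.IsAcyclicN g L m) (F : EtCoh.Ab Y) (hF : EtAcyc.IsLTorsion L F)
    (W : Y.Etale) (q : ℕ) (hq : q ≤ m) : Function.Bijective (cW g F W q) := by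
  rw [bijective_cW_iff]
  exact (Chase.compN_hp (pW g W) (hg W) ((EtCoh.pull W.hom).obj F)
    (PushTors.isLTorsion_pull L W.hom F hF)).1 q hq

variable {g} in
theorem locZero (hg : EtAcyc.IsAcyclicN g L m) (F : EtCoh.Ab Y) (hF : EtAcyc.IsLTorsion L F)
    (q : ℕ) (hq : 1 ≤ q) (hqm : q ≤ m) : LocZero g ((EtCoh.pull g).obj F) q := by
  obtain ⟨q, rfl⟩ : ∃ q', q = q' + 1 := ⟨q - 1, by omega⟩
  exact (isZero_Rpush_iff g ((EtCoh.pull g).obj F) q).1
    (isZero_Rpush_of_cofinal g cofinal_true F q fun W _ => (bijective_cW hg F hF W (q + 1) hqm).2)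

variable {g} in
theorem isIso_unit (hg : EtAcyc.IsAcyclicN g L m) (F : EtCoh.Ab Y) (hF : EtAcyc.IsLTorsion L F) :
    IsIso ((EtCoh.pullPushAdj g).unit.app F) :=
  isIso_unit_of_cofinal g cofinal_true F fun W _ => bijective_cW hg F hF W 0 (Nat.zero_le m)

/-- The class of `ξ` on `X ×_Y W`. -/
noncomputable def cl (F : EtCoh.Ab Y) (W : Y.Etale) (n : ℕ) :
    HH X ((EtCoh.pull g).obj F) n →+ HQ F (pr g W ≫ g) n :=
  (cmpP g F W n).comp (hp (pr g W) ((EtCoh.pull g).obj F) n)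

theorem cl_apply (F : EtCoh.Ab Y) (W : Y.Etale) (n : ℕ) (ξ : HH X ((EtCoh.pull g).obj F) n) :
    cl g F W n ξ = cmpP g F W n (hp (pr g W) ((EtCoh.pull g).obj F) n ξ) := rfl

theorem res_hp (N : EtCoh.Ab X) {W W' : Y.Etale} (k : W' ⟶ W) (n : ℕ) (ξ : HH X N n) :
    res N (mm g k) (mm_pr g k) n (hp (pr g W) N n ξ) = hp (pr g W') N n ξ := by
  rw [res_apply, hp_comp_th]

theorem res_cl (F : EtCoh.Ab Y) {W W' : Y.Etale} (k : W' ⟶ W) (n : ℕ)
    (h : mm g k ≫ pr g W ≫ g = pr g W' ≫ g) (ξ : HH X ((EtCoh.pull g).obj F) n) :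
    res F (mm g k) h n (cl g F W n ξ) = cl g F W' n ξ := by
  rw [cl_apply, cl_apply, res_cmpP, res_hp]

/-- Classes which come from the base étale locally die étale locally. -/
theorem dies_of_local (F : EtCoh.Ab Y) (ξ : HH X ((EtCoh.pull g).obj F) (m + 1))
    (h : ∀ y : Y, ∃ (W : Y.Etale) (w : W.left), W.hom w = y ∧
      ∃ η : HQ F W.hom (m + 1), cW g F W (m + 1) η = cl g F W (m + 1) ξ) :
    Dies g ((EtCoh.pull g).obj F) (m + 1) ξ := by
  intro y
  obtain ⟨W, w, hw, η, hη⟩ := h y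
  obtain ⟨W', k, w', hw', h0⟩ := exists_res_eq_zero m F W η w
  have e : mm g k ≫ pr g W ≫ g = pr g W' ≫ g := by rw [← Category.assoc, mm_pr]
  refine ⟨W', w', ?_, ?_⟩
  · rw [← hw, ← hw']
    exact (congrArg (fun q : W'.left ⟶ Y => q w') (EtpbcB.Big.et_w k)).symm
  · have h1 : cl g F W' (m + 1) ξ = 0 := by
      rw [← res_cl g F k (m + 1) e, ← hη, cW_res g F k (m + 1) η e, h0, map_zero]
    exact (cmpP_bijective g F W' (m + 1)).1 (h1.trans (map_zero _).symm)

variable {g} in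
/-- **Localization on the base.** -/
theorem mem_range_of_local (hg : EtAcyc.IsAcyclicN g L m) (F : EtCoh.Ab Y)
    (hF : EtAcyc.IsLTorsion L F) (ξ : HH X ((EtCoh.pull g).obj F) (m + 1))
    (h : ∀ y : Y, ∃ (W : Y.Etale) (w : W.left), W.hom w = y ∧
      ∃ η : HQ F W.hom (m + 1), cW g F W (m + 1) η = cl g F W (m + 1) ξ) :
    ∃ η : HH Y F (m + 1), hp g F (m + 1) η = ξ := by
  obtain ⟨η, hη⟩ := locRange g m ((EtCoh.pull g).obj F) (locZero hg F hF) ξ (dies_of_local g F ξ h)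
  have := isIso_unit hg F hF
  obtain ⟨x, rfl⟩ := (HHmap_bijective ((EtCoh.pullPushAdj g).unit.app F) (m + 1)).2 η
  exact ⟨x, (edg_unit g F (m + 1) x).symm.trans hη⟩

end Groth.Agent.Etbc.H194.Global
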