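import Groth.Agent.Etbc.H194.Edge
import Groth.Agent.Etcore.LimEtH
import Groth.Agent.EtpbcB.StrictLoc

/-!
# Classes dying on strict localizations die étale locally

`f : X ⟶ Y` qcqs, `ζ` a geometric point of `Y`; a class in `H^n(X, N)` which vanishes on `X ×_Y Spec O^sh_ζ` vanishes
on `X ×_Y V` for some étale neighbourhood `V` of `ζ`.
-/

set_option autoImplicit false
universe u
open CategoryTheory CategoryTheory.Limits AlgebraicGeometry Opposite Abelian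
open scoped Groth.Agent.Etcore.EtInst
open Groth.Agent.Etcore Groth.Agent.Etcore.EtInst Groth.Agent.Etcore.HpullCalc

namespace Groth.Agent.Etbc.H194.StrictDies

open Groth.Agent.Etcore.HQ Groth.Agent.Etcore.RpushLoc Groth.Agent.Etcore.PullCoh
open Groth.Agent.EtpbcB.StrictLoc (Osh toBase DX coneX isLimitConeX legX_hom Idx D lft lft_hom)

attribute [local instance] pfl

section Basic

variable {W Z X : Scheme.{u}}

theorem hp_hp_eq_zero_iff (k : W ⟶ Z) (q : Z ⟶ X) (q' : W ⟶ X) (h : k ≫ q = q') (N : EtCoh.Ab X)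
    (n : ℕ) (x : HH X N n) : hp k _ n (hp q N n x) = 0 ↔ hp q' N n x = 0 := by
  rw [← hp_comp_th k q q' h N n x]
  exact ⟨fun e => by rw [e, map_zero],
    fun e => (HHmap_bijective (th k q q' h N) n).1 (e.trans (map_zero _).symm)⟩

theorem hp_eq_zero_of_factor (k : W ⟶ Z) (q : Z ⟶ X) (q' : W ⟶ X) (h : k ≫ q = q') (N : EtCoh.Ab X)
    (n : ℕ) (x : HH X N n) (hx : hp q N n x = 0) : hp q' N n x = 0 :=
  (hp_hp_eq_zero_iff k q q' h N n x).1 (by rw [hx, map_zero])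

end Basic

variable {X Y : Scheme.{u}} {Ω : Type u} [Field Ω] [IsSepClosed Ω]
  (ζ : Spec (CommRingCat.of Ω) ⟶ Y) (f : X ⟶ Y) [QuasiCompact f] [QuasiSeparated f]
  {XA : Scheme.{u}} {fA : XA ⟶ Spec (Osh ζ)} {a : XA ⟶ X} (h : IsPullback a fA f (toBase ζ))

omit [QuasiCompact f] [QuasiSeparated f] in
theorem ht' {i j : Idx ζ} (g : i ⟶ j) :
    (DX ζ f).map g ≫ pr f ((D ζ).obj j) = pr f ((D ζ).obj i) := mm_pr f ((D ζ).map g)

omit [QuasiCompact f] [QuasiSeparated f] in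
theorem step1 (N : EtCoh.Ab X) (n : ℕ) (x : HH X N n) (hx : hp a N n x = 0) (i : Idx ζ) :
    hpVia (EtpbcB.StrictLoc.legX ζ f h i) (pr f ((D ζ).obj i)) a (legX_hom ζ f h i) N n
      (hp (pr f ((D ζ).obj i)) N n x) = 0 :=
  (hpVia_hp (EtpbcB.StrictLoc.legX ζ f h i) (pr f ((D ζ).obj i)) a (legX_hom ζ f h i) N n x).trans hx

theorem step2 (N : EtCoh.Ab X) (n : ℕ) (i : Idx ζ)
    (x : HH ((DX ζ f).obj i) ((EtCoh.pull (pr f ((D ζ).obj i))).obj N) n)
    (hx : hpVia (EtpbcB.StrictLoc.legX ζ f h i) (pr f ((D ζ).obj i)) a (legX_hom ζ f h i) N n x = 0) :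
    ∃ (k : Idx ζ) (g : k ⟶ i), hp ((DX ζ f).map g) ((EtCoh.pull (pr f ((D ζ).obj i))).obj N) n x = 0 :=
  have i1 : ∀ i, PreservesFiniteLimits
      (EtCoh.pull (X := XA) (Y := (DX ζ f).obj i) (EtpbcB.StrictLoc.legX ζ f h i)) := fun i => pfl _
  LimEt.exists_hp_eq_zero (D := DX ζ f) (S := XA) (fun i => EtpbcB.StrictLoc.legX ζ f h i)
    (fun g => EtpbcB.StrictLoc.legX_map ζ f h g) (isLimitConeX ζ f h)
    (fun j => pr f ((D ζ).obj j)) (fun g => ht' ζ f g) (fun j => legX_hom ζ f h j) N n i x hx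

omit [QuasiCompact f] [QuasiSeparated f] in
theorem step3 (N : EtCoh.Ab X) (n : ℕ) (x : HH X N n) {i k : Idx ζ} (g : k ⟶ i)
    (hk : hp ((DX ζ f).map g) _ n (hp (pr f ((D ζ).obj i)) N n x) = 0) :
    hp (pr f ((D ζ).obj k)) N n x = 0 :=
  (hp_hp_eq_zero_iff ((DX ζ f).map g) (pr f ((D ζ).obj i)) (pr f ((D ζ).obj k)) (ht' ζ f g)
      N n x).1 hk

include h in
/-- A class which vanishes on `X ×_Y Spec O^sh_ζ` vanishes on `X ×_Y V` for an étale neighbourhood of `ζ`. -/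
theorem exists_dies (N : EtCoh.Ab X) (n : ℕ) (x : HH X N n) (hx : hp a N n x = 0) :
    ∃ (V : Y.Etale) (v : V.left), V.hom v = ζ default ∧ hp (pr f V) N n x = 0 := by
  obtain ⟨k, g, hk⟩ := step2 ζ f h N n (EtpbcB.StrictLoc.i₀ ζ) _
    (step1 ζ f h N n x hx (EtpbcB.StrictLoc.i₀ ζ))
  exact ⟨(D ζ).obj k, lft ζ k default, (Scheme.Hom.comp_apply (lft ζ k) ((D ζ).obj k).hom default).symm.trans
      (congrArg (fun q : Spec (CommRingCat.of Ω) ⟶ Y => q default) (lft_hom ζ k)),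
    step3 ζ f N n x g hk⟩

end Groth.Agent.Etbc.H194.StrictDies
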